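import Cfsg.Agent.OrdCrit.Main
import Cfsg.Agent.H603.SporElim
import Cfsg.Agent.S1696
import Cfsg.Agent.Prune
set_option linter.all false
prune_inst 0x7f00000000000000000000000000000000000000000000000000000000000000000000000000000000000000000000000000000000000000000000000000000000000000000000000000000000000000003fffffffffffffffffffffffffffbeffbdffffffff
open scoped Cfsg.Agent.FastGrp

/-!
# Order criterion: the orders of the sporadic groups (helper18)
-/

set_option autoImplicit false

namespace Cfsg.Agent.OrdCrit

open Cfsg

universe u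

/-- the centre of a simple group of composite order is trivial -/
theorem center_eq_bot_of_card {K : Type*} [Group K] (hs : IsSimpleGroup K) (hc : ¬ (Nat.card K).Prime)
    (hf : Finite K) : Subgroup.center K = ⊥ := by
  rcases (inferInstance : (Subgroup.center K).Normal).eq_bot_or_eq_top with h | h
  · exact h
  · exfalso
    apply hc
    have hcomm : ∀ a b : K, a * b = b * a := by
      intro a b
      have hb : b ∈ Subgroup.center K := by rw [h]; exact Subgroup.mem_top b
      exact Subgroup.mem_center_iff.1 hb a
    let _ : CommGroup K := { (inferInstance : Group K) with mul_comm := hcomm }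
    exact IsSimpleGroup.prime_card

theorem sporOrders : SporOrders.{u} where
  m11 := fun _ _ h => NotCT.Orders.m11 h
  m12 := fun _ _ h => NotCT.Orders.m12 h
  m22 := fun _ _ h => NotCT.Orders.m22 h
  j2 := fun _ _ h => NotCT.Orders.j2 h
  j3 := fun _ _ h => NotCT.Orders.j3 h
  j4 := fun _ _ h => NotCT.Orders.j4 h
  hs := fun _ _ h => NotCT.Orders.hs h
  mcl := fun _ _ h => NotCT.Orders.mcl h
  he := fun _ _ h => NotCT.Orders.he h
  ru := fun _ _ h => NotCT.Orders.ru h
  suz := fun _ _ h => NotCT.Orders.suz h
  on := fun _ _ h => NotCT.Orders.on h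
  co3 := fun _ _ h => NotCT.Orders.co3 h
  co2 := fun _ _ h => NotCT.Orders.co2 h
  co1 := fun _ _ h => NotCT.Orders.co1 h
  fi22 := fun _ _ h => NotCT.Orders.fi22 h
  fi22c := fun K _ h => by
    have hcard := NotCT.Orders.fi22 h
    obtain ⟨e⟩ := h
    have hs : IsSimpleGroup Spor.Fi22 := S1696.result.1
    refine center_eq_bot_of_card e.isSimpleGroup (by rw [hcard]; norm_num) (Nat.finite_of_card_ne_zero ?_)
    rw [hcard]; norm_num
  fi23 := fun _ _ h => NotCT.Orders.fi23 h
  fi24 := fun _ _ h => NotCT.Orders.fi24 h
  hn := fun _ _ h => NotCT.Orders.hn h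
  ly := fun _ _ h => NotCT.Orders.ly h
  th := fun _ _ h => NotCT.Orders.th h
  b := fun _ _ h => NotCT.Orders.b h
  m := fun _ _ h => NotCT.Orders.m h
  tits := fun _ _ h => NotCT.Orders.tits h

end Cfsg.Agent.OrdCrit
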