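import Mathlib
import Cfsg.Agent.S0243
import Cfsg.Agent.S0245
import Cfsg.Agent.S0246
import Cfsg.Agent.S0280
import Cfsg.Agent.S0292
import Cfsg.Agent.S0293
import Cfsg.Agent.S0294
import Cfsg.Agent.S1059
import Cfsg.Agent.S1062
import Cfsg.Agent.S1063
import Cfsg.Agent.S1064
import Cfsg.Agent.S1065
import Cfsg.Agent.S1066
import Cfsg.Agent.S1067
import Cfsg.Agent.S1069
import Cfsg.Prelude.Def_LieTypeChar
import Cfsg.Prelude.Def_LieTwisted
import Cfsg.Agent.S1068
import Cfsg.Agent.S1163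
import Cfsg.Prelude.Def_SevenCases
set_option linter.all false

-- merged: Cfsg.Agent.OrdCrit.Arith
section

/-!
# Order criterion: arithmetic (helper18)

The order of a group of Lie type in characteristic `p` is less than the cube of its `p`-part: the inequalities.
-/

set_option autoImplicit false

namespace Cfsg.Agent.OrdCrit

open Finset

/-- `d |X| = q^N r`, `d` prime to `p`, `r < q^(2N)` imply `|X| < |X|_p ^ 3`. -/
theorem cube_of {p q k N d n r : ℕ} (hp : p.Prime) (hq : q = p ^ k) (hd : Nat.Coprime d p) (h : d * n = q ^ N * r)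
    (hr : r < q ^ (2 * N)) (hn : n ≠ 0) : n < (ordProj[p] n) ^ 3 := by
  have hd0 : 0 < d := by
    rcases Nat.eq_zero_or_pos d with rfl | h0
    · rw [zero_mul] at h
      have h1 : q ^ N ≠ 0 := by rw [hq]; exact pow_ne_zero _ (pow_ne_zero _ hp.ne_zero)
      have h2 : r = 0 := by
        rcases Nat.mul_eq_zero.1 h.symm with h3 | h3
        · exact absurd h3 h1
        · exact h3
      rw [Nat.coprime_zero_left] at hd
      exact absurd hd hp.ne_one
    · exact h0
  have h1 : q ^ N = p ^ (k * N) := by rw [hq, pow_mul]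
  have h2 : p ^ (k * N) ∣ n := by
    have h3 : p ^ (k * N) ∣ d * n := by rw [h, h1]; exact dvd_mul_right _ _
    exact (Nat.Coprime.pow_left _ hd.symm).dvd_of_dvd_mul_left h3
  have h3 : k * N ≤ n.factorization p := (hp.pow_dvd_iff_le_factorization hn).1 h2
  have h4 : q ^ N ≤ ordProj[p] n := by
    rw [h1]
    exact Nat.pow_le_pow_right hp.pos h3
  have hqN : 0 < q ^ N := by rw [h1]; exact pow_pos hp.pos _
  calc n ≤ d * n := Nat.le_mul_of_pos_left n hd0
    _ = q ^ N * r := h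
    _ < q ^ N * q ^ (2 * N) := Nat.mul_lt_mul_of_pos_left hr hqN
    _ = (q ^ N) ^ 3 := by rw [two_mul, pow_add]; ring
    _ ≤ (ordProj[p] n) ^ 3 := Nat.pow_le_pow_left h4 3

theorem coprime_sub {p q k : ℕ} (hp : p.Prime) (hk : k ≠ 0) (hq : q = p ^ k) : Nat.Coprime (q - 1) p := by
  have h1 : 1 ≤ q := by rw [hq]; exact Nat.one_le_pow _ _ hp.pos
  rw [Nat.coprime_comm, hp.coprime_iff_not_dvd]
  intro h
  have h2 : p ∣ q := by rw [hq]; exact dvd_pow_self p hk
  have h3 : p ∣ q - (q - 1) := Nat.dvd_sub h2 h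
  rw [Nat.sub_sub_self h1] at h3
  exact hp.one_lt.ne' (Nat.dvd_one.1 h3)

theorem coprime_add {p q k : ℕ} (hp : p.Prime) (hk : k ≠ 0) (hq : q = p ^ k) : Nat.Coprime (q + 1) p := by
  rw [Nat.coprime_comm, hp.coprime_iff_not_dvd]
  intro h
  have h2 : p ∣ q := by rw [hq]; exact dvd_pow_self p hk
  have h3 : p ∣ 1 := (Nat.dvd_add_right h2).1 h
  exact hp.one_lt.ne' (Nat.dvd_one.1 h3)

theorem coprime_pow_sub {p q k : ℕ} (m : ℕ) (hm : m ≠ 0) (hp : p.Prime) (hk : k ≠ 0) (hq : q = p ^ k) :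
    Nat.Coprime (q ^ m - 1) p :=
  coprime_sub (k := k * m) hp (Nat.mul_ne_zero hk hm) (by rw [hq, pow_mul])

theorem coprime_pow_add {p q k : ℕ} (m : ℕ) (hm : m ≠ 0) (hp : p.Prime) (hk : k ≠ 0) (hq : q = p ^ k) :
    Nat.Coprime (q ^ m + 1) p :=
  coprime_add (k := k * m) hp (Nat.mul_ne_zero hk hm) (by rw [hq, pow_mul])

theorem two_le {p q k : ℕ} (hp : p.Prime) (hk : k ≠ 0) (hq : q = p ^ k) : 2 ≤ q := by
  rw [hq]
  exact hp.two_le.trans (Nat.le_self_pow hk p)

/-! ### products -/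

theorem prod_le {q : ℕ} (m : ℕ) :
    ∏ i ∈ range m, (q ^ (2 * (i + 1)) - 1) ≤ q ^ (m * (m + 1)) := by
  induction m with
  | zero => simp
  | succ m ih =>
    rw [Finset.prod_range_succ]
    calc (∏ i ∈ range m, (q ^ (2 * (i + 1)) - 1)) * (q ^ (2 * (m + 1)) - 1)
        ≤ q ^ (m * (m + 1)) * q ^ (2 * (m + 1)) := Nat.mul_le_mul ih (Nat.sub_le _ _)
      _ = q ^ ((m + 1) * (m + 1 + 1)) := by rw [← pow_add]; congr 1; ring

theorem prod_lt {q m : ℕ} (hq : 2 ≤ q) (hm : 1 ≤ m) :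
    ∏ i ∈ range m, (q ^ (2 * (i + 1)) - 1) < q ^ (m * (m + 1)) := by
  obtain ⟨m, rfl⟩ := Nat.exists_eq_add_of_le' hm
  rw [Finset.prod_range_succ]
  have h1 : 0 < q ^ (2 * (m + 1)) := pow_pos (by omega) _
  have h2 : 0 < q ^ (m * (m + 1)) := pow_pos (by omega) _
  calc (∏ i ∈ range m, (q ^ (2 * (i + 1)) - 1)) * (q ^ (2 * (m + 1)) - 1)
      ≤ q ^ (m * (m + 1)) * (q ^ (2 * (m + 1)) - 1) := Nat.mul_le_mul_right _ (prod_le m)
    _ < q ^ (m * (m + 1)) * q ^ (2 * (m + 1)) := Nat.mul_lt_mul_of_pos_left (by omega) h2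
    _ = q ^ ((m + 1) * (m + 1 + 1)) := by rw [← pow_add]; congr 1; ring

/-- linear groups: `∏_{i < n} (q^n - q^i) = (q - 1) q^(n(n-1)/2) ∏_{0 < i < n} (q^(i+1) - 1)` -/
theorem prod_gl {q : ℕ} (n : ℕ) :
    ∏ i : Fin n, (q ^ n - q ^ (i : ℕ)) = q ^ (n * (n - 1) / 2) * ∏ i ∈ range n, (q ^ (i + 1) - 1) := by
  rw [Fin.prod_univ_eq_prod_range (fun i => q ^ n - q ^ i) n]
  have h1 : ∀ i ∈ range n, q ^ n - q ^ i = q ^ i * (q ^ (n - i) - 1) := by
    intro i hi
    rw [mem_range] at hi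
    rw [Nat.mul_sub, mul_one, ← pow_add, Nat.add_sub_cancel' hi.le]
  rw [Finset.prod_congr rfl h1, Finset.prod_mul_distrib, Finset.prod_pow_eq_pow_sum, Finset.sum_range_id]
  congr 1
  rw [← Finset.prod_range_reflect]
  apply Finset.prod_congr rfl
  intro i hi
  rw [mem_range] at hi
  congr 2
  omega

/-- `∏_{i < n} (q^(i+2) - 1) < q^((n+1) n)` -/
theorem lin_lt {q n : ℕ} (hq : 2 ≤ q) (hn : 1 ≤ n) :
    ∏ i ∈ range n, (q ^ (i + 1 + 1) - 1) < q ^ ((n + 1) * n) := by
  have key : ∀ n : ℕ, ∏ i ∈ range n, (q ^ (i + 1 + 1) - 1) ≤ q ^ ((n + 1) * n) := by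
    intro n
    induction n with
    | zero => simp
    | succ m ih =>
      rw [Finset.prod_range_succ]
      calc (∏ i ∈ range m, (q ^ (i + 1 + 1) - 1)) * (q ^ (m + 1 + 1) - 1)
          ≤ q ^ ((m + 1) * m) * q ^ (m + 1 + 1) := Nat.mul_le_mul ih (Nat.sub_le _ _)
        _ = q ^ ((m + 1) * m + (m + 1 + 1)) := by rw [← pow_add]
        _ ≤ q ^ ((m + 1 + 1) * (m + 1)) := Nat.pow_le_pow_right (by omega) (by nlinarith)
  obtain ⟨m, rfl⟩ := Nat.exists_eq_add_of_le' hn
  rw [Finset.prod_range_succ]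
  have h1 : 0 < q ^ (m + 1 + 1) := pow_pos (by omega) _
  have h2 : 0 < q ^ ((m + 1) * m) := pow_pos (by omega) _
  calc (∏ i ∈ range m, (q ^ (i + 1 + 1) - 1)) * (q ^ (m + 1 + 1) - 1)
      ≤ q ^ ((m + 1) * m) * (q ^ (m + 1 + 1) - 1) := Nat.mul_le_mul_right _ (key m)
    _ < q ^ ((m + 1) * m) * q ^ (m + 1 + 1) := Nat.mul_lt_mul_of_pos_left (by omega) h2
    _ = q ^ ((m + 1) * m + (m + 1 + 1)) := by rw [← pow_add]
    _ ≤ q ^ ((m + 1 + 1) * (m + 1)) := Nat.pow_le_pow_right (by omega) (by nlinarith)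

/-- the unitary product -/
theorem uni_lt {q n : ℕ} (hq : 2 ≤ q) (hn : 2 ≤ n) :
    ∏ i ∈ range n, (if Even (i + 1) then q ^ (i + 1 + 1) + 1 else q ^ (i + 1 + 1) - 1) < q ^ ((n + 1) * n) := by
  have hle : ∀ i : ℕ, (if Even (i + 1) then q ^ (i + 1 + 1) + 1 else q ^ (i + 1 + 1) - 1) ≤ q ^ (i + 3) := by
    intro i
    have h1 : 1 ≤ q ^ (i + 1 + 1) := Nat.one_le_pow _ _ (by omega)
    have h2 : q ^ (i + 3) = q ^ (i + 1 + 1) * q := by rw [← pow_succ]
    split_ifs
    · rw [h2]; nlinarith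
    · rw [h2]; exact (Nat.sub_le _ _).trans (Nat.le_mul_of_pos_right _ (by omega))
  have key : ∀ m : ℕ, ∏ i ∈ range (m + 1), (if Even (i + 1) then q ^ (i + 1 + 1) + 1 else q ^ (i + 1 + 1) - 1) ≤
      (q ^ 2 - 1) * q ^ (∑ i ∈ range m, (i + 4)) := by
    intro m
    induction m with
    | zero => simp
    | succ m ih =>
      rw [Finset.prod_range_succ, Finset.sum_range_succ, pow_add q (∑ i ∈ range m, (i + 4)) (m + 4), ← mul_assoc]
      exact Nat.mul_le_mul ih (hle (m + 1))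
  obtain ⟨m, rfl⟩ := Nat.exists_eq_add_of_le' hn
  have h1 : 2 * (∑ i ∈ range (m + 1), (i + 4)) = (m + 1) * (m + 8) := by
    induction m with
    | zero => simp
    | succ n ih => rw [Finset.sum_range_succ, mul_add, ih (by omega)]; ring
  have h2 : 0 < q ^ (∑ i ∈ range (m + 1), (i + 4)) := pow_pos (by omega) _
  have h3 : 0 < q ^ 2 := pow_pos (by omega) _
  calc _ ≤ (q ^ 2 - 1) * q ^ (∑ i ∈ range (m + 1), (i + 4)) := key (m + 1)
    _ < q ^ 2 * q ^ (∑ i ∈ range (m + 1), (i + 4)) := Nat.mul_lt_mul_of_pos_right (by omega) h2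
    _ = q ^ (2 + ∑ i ∈ range (m + 1), (i + 4)) := by rw [pow_add]
    _ ≤ q ^ ((m + 2 + 1) * (m + 2)) := Nat.pow_le_pow_right (by omega) (by nlinarith)

end Cfsg.Agent.OrdCrit

end

-- merged: Cfsg.Agent.OrdCrit.LieCube
section

/-!
# Order criterion: `|X| < |X|_p ^ 3` for `X` of Lie type in odd characteristic `p` (helper18)
-/

set_option autoImplicit false

namespace Cfsg.Agent.OrdCrit

open Finset Cfsg

section families

variable {F : Type} [Field F] [Fintype F] {p : ℕ}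

theorem exists_pow (hp : p.Prime) [CharP F p] : ∃ k : ℕ, k ≠ 0 ∧ Fintype.card F = p ^ k := by
  have : Fact p.Prime := ⟨hp⟩
  obtain ⟨n, -, h⟩ := FiniteField.card F p
  exact ⟨n, n.ne_zero, h⟩

theorem root_pow {q m c : ℕ} (hp : p.Prime) (hm : m ≠ 0) (hc : ∃ k : ℕ, k ≠ 0 ∧ c = p ^ k) (h : c = q ^ m) :
    ∃ k : ℕ, k ≠ 0 ∧ q = p ^ k := by
  obtain ⟨k, hk, hc⟩ := hc
  have h1 : q ∣ p ^ k := by rw [← hc, h]; exact dvd_pow_self q hm
  obtain ⟨j, -, hj⟩ := (Nat.dvd_prime_pow hp).1 h1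
  refine ⟨j, ?_, hj⟩
  rintro rfl
  rw [pow_zero] at hj
  rw [hj, one_pow, hc] at h
  exact absurd h (Nat.one_lt_pow hk hp.one_lt).ne'

theorem psl (hp : p.Prime) [CharP F p] {n : ℕ} (hn : 2 ≤ n) :
    Nat.card (Matrix.ProjectiveSpecialLinearGroup (Fin n) F) <
      (ordProj[p] (Nat.card (Matrix.ProjectiveSpecialLinearGroup (Fin n) F))) ^ 3 := by
  obtain ⟨k, hk, hq⟩ := exists_pow (F := F) hp
  have hq2 := two_le hp hk hq
  have h := S0243.result (F := F) rfl n hn
  obtain ⟨m, rfl⟩ := Nat.exists_eq_add_of_le' hn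
  rw [prod_gl, Finset.prod_range_succ', zero_add, pow_one, mul_left_comm, ← mul_assoc (Fintype.card F ^ _),
    mul_comm _ (Fintype.card F - 1)] at h
  have h' := Nat.eq_of_mul_eq_mul_left (show 0 < Fintype.card F - 1 by omega) h
  refine cube_of hp hq ?_ h' ?_ Nat.card_pos.ne'
  · exact Nat.Coprime.coprime_dvd_left (Nat.gcd_dvd_right _ _) (coprime_sub hp hk hq)
  · refine (lin_lt hq2 (by omega)).trans_le (Nat.pow_le_pow_right (by omega) ?_)
    have h5 : 2 * ((m + 2) * (m + 2 - 1) / 2) = (m + 2) * (m + 2 - 1) := by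
      apply Nat.mul_div_cancel'
      have := Nat.even_mul_pred_self (m + 2)
      exact this.two_dvd
    rw [h5]
    have : m + 2 - 1 = m + 1 := by omega
    rw [this]

theorem psu (hp : p.Prime) [CharP F p] {n q : ℕ} (hF : Fintype.card F = q ^ 2) (hn : 3 ≤ n) :
    Nat.card (PSU n F q) < (ordProj[p] (Nat.card (PSU n F q))) ^ 3 := by
  obtain ⟨k, hk, hq⟩ := root_pow hp (by norm_num) (exists_pow (F := F) hp) hF
  have hq2 := two_le hp hk hq
  have h := S0280.result (F := F) hF n (by omega)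
  obtain ⟨m, rfl⟩ := Nat.exists_eq_add_of_le' hn
  rw [Finset.prod_range_succ', if_pos (by decide), zero_add, pow_one, mul_left_comm, ← mul_assoc (q ^ _),
    mul_comm _ (q + 1)] at h
  have h' := Nat.eq_of_mul_eq_mul_left (show 0 < q + 1 by omega) h
  refine cube_of hp hq ?_ h' ?_ Nat.card_pos.ne'
  · exact Nat.Coprime.coprime_dvd_left (Nat.gcd_dvd_right _ _) (coprime_add hp hk hq)
  · refine (uni_lt hq2 (by omega)).trans_le (Nat.pow_le_pow_right (by omega) ?_)
    have h5 : 2 * ((m + 3) * (m + 3 - 1) / 2) = (m + 3) * (m + 3 - 1) := by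
      apply Nat.mul_div_cancel'
      have := Nat.even_mul_pred_self (m + 3)
      exact this.two_dvd
    rw [h5]
    have : m + 3 - 1 = m + 2 := by omega
    rw [this]

theorem psp (hp : p.Prime) [CharP F p] {m : ℕ} (hm : 2 ≤ m) :
    Nat.card (PSp m F) < (ordProj[p] (Nat.card (PSp m F))) ^ 3 := by
  obtain ⟨k, hk, hq⟩ := exists_pow (F := F) hp
  have hq2 := two_le hp hk hq
  have h1 := S0245.result (F := F) rfl m
  have h2 := S0246.result (F := F) rfl m (by omega)
  have h3 := Subgroup.card_mul_index (Subgroup.center ↥(Matrix.symplecticGroup (Fin m) F))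
  rw [h1, h2] at h3
  refine cube_of hp hq ?_ h3 ?_ Nat.card_pos.ne'
  · exact Nat.Coprime.coprime_dvd_left (Nat.gcd_dvd_right _ _) (coprime_sub hp hk hq)
  · refine (prod_lt hq2 (by omega)).trans_le (Nat.pow_le_pow_right (by omega) ?_)
    nlinarith

theorem pomegaOdd (hp : p.Prime) (hp2 : p ≠ 2) [CharP F p] {m : ℕ} (hm : 3 ≤ m) (ho : Odd (Fintype.card F)) :
    Nat.card (POmega F (quadFormOdd m F)) < (ordProj[p] (Nat.card (POmega F (quadFormOdd m F)))) ^ 3 := by
  obtain ⟨k, hk, hq⟩ := exists_pow (F := F) hp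
  have hq2 := two_le hp hk hq
  have h1 := S0292.result (F := F) rfl ho m hm
  have h0 : Nat.card (POmega F (quadFormOdd m F)) ≠ 0 := by
    intro h
    rw [h, mul_zero] at h1
    have : 0 < Fintype.card F ^ m ^ 2 * ∏ i ∈ range m, (Fintype.card F ^ (2 * (i + 1)) - 1) := by
      refine Nat.mul_pos (pow_pos (by omega) _) (Finset.prod_pos fun i _ => ?_)
      have : Fintype.card F ^ 1 ≤ Fintype.card F ^ (2 * (i + 1)) := Nat.pow_le_pow_right (by omega) (by omega)
      rw [pow_one] at this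
      omega
    omega
  refine cube_of hp hq ?_ h1 ?_ h0
  · rw [Nat.coprime_primes Nat.prime_two hp]; exact fun h => hp2 h.symm
  · refine (prod_lt hq2 (by omega)).trans_le (Nat.pow_le_pow_right (by omega) ?_)
    nlinarith

theorem pomegaPlus (hp : p.Prime) [CharP F p] {m : ℕ} (hm : 4 ≤ m) :
    Nat.card (POmega F (quadFormPlus m F)) < (ordProj[p] (Nat.card (POmega F (quadFormPlus m F)))) ^ 3 := by
  obtain ⟨k, hk, hq⟩ := exists_pow (F := F) hp
  have hq2 := two_le hp hk hq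
  have h1 := S0293.result (F := F) rfl m hm
  have hqm : 1 < Fintype.card F ^ m := Nat.one_lt_pow (by omega) (by omega)
  have h0 : Nat.card (POmega F (quadFormPlus m F)) ≠ 0 := by
    intro h
    rw [h, mul_zero] at h1
    have : 0 < Fintype.card F ^ (m * (m - 1)) * (Fintype.card F ^ m - 1) *
        ∏ i ∈ range (m - 1), (Fintype.card F ^ (2 * (i + 1)) - 1) := by
      refine Nat.mul_pos (Nat.mul_pos (pow_pos (by omega) _) (by omega)) (Finset.prod_pos fun i _ => ?_)
      have : Fintype.card F ^ 1 ≤ Fintype.card F ^ (2 * (i + 1)) := Nat.pow_le_pow_right (by omega) (by omega)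
      rw [pow_one] at this
      omega
    omega
  rw [mul_assoc] at h1
  refine cube_of hp hq ?_ h1 ?_ h0
  · exact Nat.Coprime.coprime_dvd_left (Nat.gcd_dvd_right _ _) (coprime_pow_sub m (by omega) hp hk hq)
  · have hl := prod_le (q := Fintype.card F) (m - 1)
    have h2 : (Fintype.card F ^ m - 1) * ∏ i ∈ range (m - 1), (Fintype.card F ^ (2 * (i + 1)) - 1) <
        Fintype.card F ^ m * Fintype.card F ^ ((m - 1) * (m - 1 + 1)) := by
      calc _ ≤ (Fintype.card F ^ m - 1) * Fintype.card F ^ ((m - 1) * (m - 1 + 1)) := Nat.mul_le_mul_left _ hl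
        _ < _ := Nat.mul_lt_mul_of_pos_right (by omega) (pow_pos (by omega) _)
    refine h2.trans_le ?_
    rw [← pow_add]
    apply Nat.pow_le_pow_right (by omega)
    obtain ⟨j, rfl⟩ := Nat.exists_eq_add_of_le' hm
    have : j + 4 - 1 = j + 3 := by omega
    rw [this]
    nlinarith

theorem pomegaMinus (hp : p.Prime) [CharP F p] {m : ℕ} (hm : 4 ≤ m) (a b : F)
    (hab : ∀ z₁ z₂ : F, z₁ ^ 2 + a * z₁ * z₂ + b * z₂ ^ 2 = 0 → z₁ = 0 ∧ z₂ = 0) :
    Nat.card (POmega F (quadFormMinus (m - 1) F a b)) <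
      (ordProj[p] (Nat.card (POmega F (quadFormMinus (m - 1) F a b)))) ^ 3 := by
  obtain ⟨k, hk, hq⟩ := exists_pow (F := F) hp
  have hq2 := two_le hp hk hq
  have h1 := S0294.result (F := F) rfl m hm a b hab
  have hqm : 1 < Fintype.card F ^ m := Nat.one_lt_pow (by omega) (by omega)
  have h0 : Nat.card (POmega F (quadFormMinus (m - 1) F a b)) ≠ 0 := by
    intro h
    rw [h, mul_zero] at h1
    have : 0 < Fintype.card F ^ (m * (m - 1)) * (Fintype.card F ^ m + 1) *
        ∏ i ∈ range (m - 1), (Fintype.card F ^ (2 * (i + 1)) - 1) := by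
      refine Nat.mul_pos (Nat.mul_pos (pow_pos (by omega) _) (by omega)) (Finset.prod_pos fun i _ => ?_)
      have : Fintype.card F ^ 1 ≤ Fintype.card F ^ (2 * (i + 1)) := Nat.pow_le_pow_right (by omega) (by omega)
      rw [pow_one] at this
      omega
    omega
  rw [mul_assoc] at h1
  refine cube_of hp hq ?_ h1 ?_ h0
  · exact Nat.Coprime.coprime_dvd_left (Nat.gcd_dvd_right _ _) (coprime_pow_add m (by omega) hp hk hq)
  · have hl := prod_le (q := Fintype.card F) (m - 1)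
    have h2 : (Fintype.card F ^ m + 1) * ∏ i ∈ range (m - 1), (Fintype.card F ^ (2 * (i + 1)) - 1) ≤
        (Fintype.card F ^ m * Fintype.card F) * Fintype.card F ^ ((m - 1) * (m - 1 + 1)) := by
      refine Nat.mul_le_mul ?_ hl
      nlinarith
    refine h2.trans_lt ?_
    rw [← pow_succ, ← pow_add]
    apply Nat.pow_lt_pow_right (by omega)
    obtain ⟨j, rfl⟩ := Nat.exists_eq_add_of_le' hm
    have : j + 4 - 1 = j + 3 := by omega
    rw [this]
    nlinarith

theorem g2 (hp : p.Prime) [CharP F p] :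
    Nat.card ↥(Lie.chevG2.group F) < (ordProj[p] (Nat.card ↥(Lie.chevG2.group F))) ^ 3 := by
  obtain ⟨k, hk, hq⟩ := exists_pow (F := F) hp
  have hq2 := two_le hp hk hq
  have h1 := S1059.result (F := F) rfl
  set q := Fintype.card F
  have hqp : 0 < q := by omega
  have h2 : 0 < q ^ 2 := pow_pos hqp _
  rw [mul_assoc, ← one_mul (Nat.card _)] at h1
  refine cube_of hp hq (Nat.coprime_one_left p) h1 ?_ Nat.card_pos.ne'
  calc (q ^ 2 - 1) * (q ^ 6 - 1) ≤ q ^ 2 * q ^ 6 := Nat.mul_le_mul (Nat.sub_le _ _) (Nat.sub_le _ _)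
    _ = q ^ 8 := by ring
    _ < q ^ (2 * 6) := Nat.pow_lt_pow_right (by omega) (by norm_num)

theorem f4 (hp : p.Prime) [CharP F p] :
    Nat.card ↥(Lie.chevF4.group F) < (ordProj[p] (Nat.card ↥(Lie.chevF4.group F))) ^ 3 := by
  obtain ⟨k, hk, hq⟩ := exists_pow (F := F) hp
  have hq2 := two_le hp hk hq
  have h1 := S1062.result (F := F) rfl
  set q := Fintype.card F
  rw [mul_assoc, mul_assoc, mul_assoc, ← one_mul (Nat.card _)] at h1
  refine cube_of hp hq (Nat.coprime_one_left p) h1 ?_ Nat.card_pos.ne'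
  calc (q ^ 2 - 1) * ((q ^ 6 - 1) * ((q ^ 8 - 1) * (q ^ 12 - 1))) ≤ q ^ 2 * (q ^ 6 * (q ^ 8 * q ^ 12)) :=
        Nat.mul_le_mul (Nat.sub_le _ _) (Nat.mul_le_mul (Nat.sub_le _ _) (Nat.mul_le_mul (Nat.sub_le _ _) (Nat.sub_le _ _)))
    _ = q ^ 28 := by ring
    _ < q ^ (2 * 24) := Nat.pow_lt_pow_right (by omega) (by norm_num)

theorem e6 (hp : p.Prime) [CharP F p] :
    Nat.card ↥(Lie.chevE6.group F) < (ordProj[p] (Nat.card ↥(Lie.chevE6.group F))) ^ 3 := by
  obtain ⟨k, hk, hq⟩ := exists_pow (F := F) hp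
  have hq2 := two_le hp hk hq
  have h1 := S1063.result (F := F) rfl
  rw [mul_assoc, mul_assoc, mul_assoc, mul_assoc, mul_assoc] at h1
  refine cube_of hp hq ?_ h1 ?_ Nat.card_pos.ne'
  · exact Nat.Coprime.coprime_dvd_left (Nat.gcd_dvd_right _ _) (coprime_sub hp hk hq)
  · set q := Fintype.card F
    calc _ ≤ q ^ 2 * (q ^ 5 * (q ^ 6 * (q ^ 8 * (q ^ 9 * q ^ 12)))) := by
          gcongr <;> exact Nat.sub_le _ _
      _ = q ^ 42 := by ring
      _ < q ^ (2 * 36) := Nat.pow_lt_pow_right (by omega) (by norm_num)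

theorem e7 (hp : p.Prime) [CharP F p] :
    Nat.card ↥(Lie.chevE7.group F) < (ordProj[p] (Nat.card ↥(Lie.chevE7.group F))) ^ 3 := by
  obtain ⟨k, hk, hq⟩ := exists_pow (F := F) hp
  have hq2 := two_le hp hk hq
  have h1 := S1064.result (F := F) rfl
  rw [mul_assoc, mul_assoc, mul_assoc, mul_assoc, mul_assoc, mul_assoc] at h1
  refine cube_of hp hq ?_ h1 ?_ Nat.card_pos.ne'
  · exact Nat.Coprime.coprime_dvd_left (Nat.gcd_dvd_right _ _) (coprime_sub hp hk hq)
  · set q := Fintype.card F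
    calc _ ≤ q ^ 2 * (q ^ 6 * (q ^ 8 * (q ^ 10 * (q ^ 12 * (q ^ 14 * q ^ 18))))) := by
          gcongr <;> exact Nat.sub_le _ _
      _ = q ^ 70 := by ring
      _ < q ^ (2 * 63) := Nat.pow_lt_pow_right (by omega) (by norm_num)

theorem e8 (hp : p.Prime) [CharP F p] :
    Nat.card ↥(Lie.chevE8.group F) < (ordProj[p] (Nat.card ↥(Lie.chevE8.group F))) ^ 3 := by
  obtain ⟨k, hk, hq⟩ := exists_pow (F := F) hp
  have hq2 := two_le hp hk hq
  have h1 := S1065.result (F := F) rfl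
  rw [mul_assoc, mul_assoc, mul_assoc, mul_assoc, mul_assoc, mul_assoc, mul_assoc, ← one_mul (Nat.card _)] at h1
  refine cube_of hp hq (Nat.coprime_one_left p) h1 ?_ Nat.card_pos.ne'
  set q := Fintype.card F
  calc _ ≤ q ^ 2 * (q ^ 8 * (q ^ 12 * (q ^ 14 * (q ^ 18 * (q ^ 20 * (q ^ 24 * q ^ 30)))))) := by
        gcongr <;> exact Nat.sub_le _ _
    _ = q ^ 128 := by ring
    _ < q ^ (2 * 120) := Nat.pow_lt_pow_right (by omega) (by norm_num)

theorem twE6 (hp : p.Prime) [CharP F p] {q : ℕ} (hpp : IsPrimePow q) (hF : Fintype.card F = q ^ 2) :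
    Nat.card ↥(Lie.twistedE6 F q) < (ordProj[p] (Nat.card ↥(Lie.twistedE6 F q))) ^ 3 := by
  obtain ⟨k, hk, hq⟩ := root_pow hp (by norm_num) (exists_pow (F := F) hp) hF
  have hq2 := two_le hp hk hq
  have h1 := S1066.result hpp hF
  rw [mul_assoc, mul_assoc, mul_assoc, mul_assoc, mul_assoc] at h1
  refine cube_of hp hq ?_ h1 ?_ Nat.card_pos.ne'
  · exact Nat.Coprime.coprime_dvd_left (Nat.gcd_dvd_right _ _) (coprime_add hp hk hq)
  · have h5 : q ^ 5 + 1 ≤ q ^ 6 := by
      have : 1 ≤ q ^ 5 := Nat.one_le_pow _ _ (by omega)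
      rw [pow_succ q 5]; nlinarith
    have h9 : q ^ 9 + 1 ≤ q ^ 10 := by
      have : 1 ≤ q ^ 9 := Nat.one_le_pow _ _ (by omega)
      rw [pow_succ q 9]; nlinarith
    calc _ ≤ q ^ 2 * (q ^ 6 * (q ^ 6 * (q ^ 8 * (q ^ 10 * q ^ 12)))) := by
          gcongr <;> exact Nat.sub_le _ _
      _ = q ^ 44 := by ring
      _ < q ^ (2 * 36) := Nat.pow_lt_pow_right (by omega) (by norm_num)

theorem twD4 (hp : p.Prime) [CharP F p] {q : ℕ} (hpp : IsPrimePow q) (hF : Fintype.card F = q ^ 3) :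
    Nat.card ↥(Lie.twistedD4 F q) < (ordProj[p] (Nat.card ↥(Lie.twistedD4 F q))) ^ 3 := by
  obtain ⟨k, hk, hq⟩ := root_pow hp (by norm_num) (exists_pow (F := F) hp) hF
  have hq2 := two_le hp hk hq
  have h1 := S1067.result hpp hF
  rw [mul_assoc, mul_assoc, ← one_mul (Nat.card _)] at h1
  refine cube_of hp hq (Nat.coprime_one_left p) h1 ?_ Nat.card_pos.ne'
  have h8 : q ^ 8 + q ^ 4 + 1 ≤ q ^ 10 := by
    have h4 : 1 ≤ q ^ 4 := Nat.one_le_pow _ _ (by omega)
    have e8 : q ^ 8 = q ^ 4 * q ^ 4 := by ring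
    have e10 : q ^ 10 = q ^ 4 * q ^ 4 * (q * q) := by ring
    rw [e8, e10]
    have hqq : 4 ≤ q * q := Nat.mul_le_mul hq2 hq2
    nlinarith [Nat.mul_le_mul h4 h4]
  calc _ ≤ q ^ 2 * (q ^ 6 * q ^ 10) := by
        gcongr <;> exact Nat.sub_le _ _
    _ = q ^ 18 := by ring
    _ < q ^ (2 * 12) := Nat.pow_lt_pow_right (by omega) (by norm_num)

end families

theorem ree {K : Type} [Field K] [Fintype K] {m : ℕ} (hK : Fintype.card K = 3 ^ (2 * m + 1)) :
    Nat.card ↥(Lie.twistedG2 K (3 ^ m)) < (ordProj[3] (Nat.card ↥(Lie.twistedG2 K (3 ^ m)))) ^ 3 := by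
  have h1 := S1069.result hK
  have hq2 : 2 ≤ 3 ^ (2 * m + 1) := by
    have : 3 ^ 1 ≤ 3 ^ (2 * m + 1) := Nat.pow_le_pow_right (by norm_num) (by omega)
    omega
  rw [mul_assoc, ← one_mul (Nat.card _)] at h1
  refine cube_of (q := 3 ^ (2 * m + 1)) Nat.prime_three rfl (Nat.coprime_one_left 3) h1 ?_ Nat.card_pos.ne'
  generalize 3 ^ (2 * m + 1) = q at hq2 ⊢
  have h3 : q ^ 3 + 1 ≤ q ^ 4 := by
    have : 1 ≤ q ^ 3 := Nat.one_le_pow _ _ (by omega)
    rw [pow_succ q 3]; nlinarith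
  calc (q - 1) * (q ^ 3 + 1) ≤ q * q ^ 4 := Nat.mul_le_mul (Nat.sub_le _ _) h3
    _ = q ^ 5 := by ring
    _ < q ^ (2 * 3) := Nat.pow_lt_pow_right (by omega) (by norm_num)

/-- **`|X| < |X|_p ^ 3`**, `X` of Lie type in odd characteristic `p`. -/
theorem card_lt_cube {X : Type*} [Group X] {p : ℕ} (hp : p.Prime) (hp2 : p ≠ 2) (h : IsLieTypeChar p X) :
    Nat.card X < (ordProj[p] (Nat.card X)) ^ 3 := by
  rcases h with h | h | h | h | h | h | h | h | ⟨hp', -⟩ | ⟨hp', -⟩ | ⟨hp', h⟩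
  · obtain ⟨F, _, _, _, n, h1, h2, ⟨f⟩⟩ := h
    rw [Nat.card_congr f.toEquiv]
    exact psl hp h1
  · obtain ⟨F, _, _, _, m, h1, h2, ⟨f⟩⟩ := h
    rw [Nat.card_congr f.toEquiv]
    exact psp hp h1
  · obtain ⟨F, _, _, _, n, q, h1, h2, h3, ⟨f⟩⟩ := h
    rw [Nat.card_congr f.toEquiv]
    exact psu hp h1 h2
  · obtain ⟨F, _, _, _, m, h1, h2, ⟨f⟩⟩ := h
    rw [Nat.card_congr f.toEquiv]
    exact pomegaOdd hp hp2 h1 h2
  · obtain ⟨F, i1, i2, i3, m, h1, ⟨f⟩⟩ := h
    rw [Nat.card_congr f.toEquiv]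
    exact pomegaPlus hp h1
  · obtain ⟨F, i1, i2, i3, m, a, b, h1, h2, ⟨f⟩⟩ := h
    rw [Nat.card_congr f.toEquiv]
    exact pomegaMinus hp h1 a b h2
  · obtain ⟨F, i1, i2, i3, h⟩ := h
    rcases h with ⟨h1, ⟨f⟩⟩ | ⟨⟨f⟩⟩ | ⟨⟨f⟩⟩ | ⟨⟨f⟩⟩ | ⟨⟨f⟩⟩
    · rw [Nat.card_congr f.toEquiv]; exact g2 hp
    · rw [Nat.card_congr f.toEquiv]; exact f4 hp
    · rw [Nat.card_congr f.toEquiv]; exact e6 hp
    · rw [Nat.card_congr f.toEquiv]; exact e7 hp
    · rw [Nat.card_congr f.toEquiv]; exact e8 hp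
  · obtain ⟨F, i1, i2, i3, q, hq, h⟩ := h
    rcases h with ⟨h1, ⟨f⟩⟩ | ⟨h1, ⟨f⟩⟩
    · rw [Nat.card_congr f.toEquiv]; exact twE6 hp hq h1
    · rw [Nat.card_congr f.toEquiv]; exact twD4 hp hq h1
  · exact absurd hp' hp2
  · exact absurd hp' hp2
  · obtain ⟨F, _, _, m, h1, h2, ⟨f⟩⟩ := h
    subst hp'
    rw [Nat.card_congr f.toEquiv]
    exact ree h2

end Cfsg.Agent.OrdCrit

end

-- merged: Cfsg.Agent.OrdCrit.Main
section

/-!
# Order criterion for "neither a `C_p`- nor a `T_p`-group", `p` odd (helper18)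

`N = |K / Z(K)|`, `N_2` and `N_p` the 2-part and the `p`-part.

* `notCT_of_order` : `N² < N_2⁵`, `2¹⁵ ≤ N_2` (or `N = |L₄(4)|`), `N_p³ ≤ N`, `N` not the order of `U₆(2)`, `G₂(8)`, `F₄(2)`,
  `²F₄(32)`, `m_p(K) ≥ 2`: then `K` is neither in `C_p` nor in `T_p`.
* `SporOrders` : the orders of the sporadic groups used.
-/

set_option autoImplicit false

namespace Cfsg.Agent.OrdCrit

open Finset Cfsg

universe u

/-- the orders of the sporadic groups -/
structure SporOrders : Prop where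
  m11 : ∀ (K : Type u) [Group K], Spor.IsoM11 K → Nat.card K = 7920
  m12 : ∀ (K : Type u) [Group K], Spor.IsoM12 K → Nat.card K = 95040
  m22 : ∀ (K : Type u) [Group K], Spor.IsoM22 K → Nat.card K = 443520
  j2 : ∀ (K : Type u) [Group K], Spor.IsoJ2 K → Nat.card K = 604800
  j3 : ∀ (K : Type u) [Group K], Spor.IsoJ3 K → Nat.card K = 50232960
  j4 : ∀ (K : Type u) [Group K], Spor.IsoJ4 K → Nat.card K = 86775571046077562880
  hs : ∀ (K : Type u) [Group K], Spor.IsoHS K → Nat.card K = 44352000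
  mcl : ∀ (K : Type u) [Group K], Spor.IsoMcL K → Nat.card K = 898128000
  he : ∀ (K : Type u) [Group K], Spor.IsoHe K → Nat.card K = 4030387200
  ru : ∀ (K : Type u) [Group K], Spor.IsoRu K → Nat.card K = 145926144000
  suz : ∀ (K : Type u) [Group K], Spor.IsoSuz K → Nat.card K = 448345497600
  on : ∀ (K : Type u) [Group K], Spor.IsoON K → Nat.card K = 460815505920
  co3 : ∀ (K : Type u) [Group K], Spor.IsoCo3 K → Nat.card K = 495766656000
  co2 : ∀ (K : Type u) [Group K], Spor.IsoCo2 K → Nat.card K = 42305421312000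
  co1 : ∀ (K : Type u) [Group K], Spor.IsoCo1 K → Nat.card K = 4157776806543360000
  fi22 : ∀ (K : Type u) [Group K], Spor.IsoFi22 K → Nat.card K = 64561751654400
  fi22c : ∀ (K : Type u) [Group K], Spor.IsoFi22 K → Subgroup.center K = ⊥
  fi23 : ∀ (K : Type u) [Group K], Spor.IsoFi23 K → Nat.card K = 4089470473293004800
  fi24 : ∀ (K : Type u) [Group K], Spor.IsoFi24' K → Nat.card K = 1255205709190661721292800
  hn : ∀ (K : Type u) [Group K], Spor.IsoHN K → Nat.card K = 273030912000000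
  ly : ∀ (K : Type u) [Group K], Spor.IsoLy K → Nat.card K = 51765179004000000
  th : ∀ (K : Type u) [Group K], Spor.IsoTh K → Nat.card K = 90745943887872000
  b : ∀ (K : Type u) [Group K], Spor.IsoB K → Nat.card K = 4154781481226426191177580544000000
  m : ∀ (K : Type u) [Group K], Spor.IsoM K →
    Nat.card K = 808017424794512875886459904961710757005754368000000000
  tits : ∀ (K : Type u) [Group K], Lie.IsoTits K → Nat.card K = 17971200

/-! ### the condition on the order -/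

/-- the condition on `N` -/
structure Cond (N : ℕ) : Prop where
  ne : N ≠ 0
  h1 : N ^ 2 < (ordProj[2] N) ^ 5
  h2 : 2 ^ 15 ≤ ordProj[2] N ∨ N = 987033600
  u6 : N ≠ 9196830720
  g2 : N ≠ 4329310519296
  f4 : N ≠ 3311126603366400
  tf : N ≠ 1318633155799591447702161609782722560000

theorem ordProj_le {N a : ℕ} (hN : N ≠ 0) (h : ¬ 2 ^ (a + 1) ∣ N) : ordProj[2] N ≤ 2 ^ a := by
  apply Nat.pow_le_pow_right (by norm_num)
  by_contra hcon
  apply h
  rw [Nat.prime_two.pow_dvd_iff_le_factorization hN]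
  omega

/-- excluded by `h1` -/
theorem Cond.not_one {N : ℕ} (C : Cond N) (a : ℕ) (h : ¬ 2 ^ (a + 1) ∣ N) (h5 : 2 ^ (5 * a) ≤ N ^ 2) : False := by
  have h3 : (ordProj[2] N) ^ 5 ≤ 2 ^ (5 * a) := by
    refine (Nat.pow_le_pow_left (ordProj_le C.ne h) 5).trans (le_of_eq ?_)
    rw [← pow_mul, mul_comm]
  exact absurd C.h1 (not_lt.2 (h3.trans h5))

/-- excluded by `h2` -/
theorem Cond.not_two {N : ℕ} (C : Cond N) (h : ¬ 2 ^ 15 ∣ N) (hN : N ≠ 987033600) : False := by
  rcases C.h2 with h2 | h2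
  · have h3 := ordProj_le (a := 14) C.ne h
    omega
  · exact hN h2

/-! ### alternating groups -/

theorem two_mul_card_alt (n : ℕ) (hn : 2 ≤ n) : 2 * Nat.card (alternatingGroup (Fin n)) = n.factorial := by
  have : Nontrivial (Fin n) := Fin.nontrivial_iff_two_le.2 hn
  have h := two_mul_nat_card_alternatingGroup (α := Fin n)
  rwa [Nat.card_perm, Nat.card_fin] at h

theorem fact_large : ∀ m : ℕ, 2 ^ (5 * (m + 16)) * 4 ≤ ((m + 18).factorial) ^ 2 := by
  intro m
  induction m with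
  | zero => decide +kernel
  | succ m ih =>
    have h1 : (m + 1 + 18).factorial = (m + 19) * (m + 18).factorial := Nat.factorial_succ (m + 18)
    rw [h1, mul_pow]
    have h2 : 2 ^ (5 * (m + 1 + 16)) = 32 * 2 ^ (5 * (m + 16)) := by
      rw [show 5 * (m + 1 + 16) = 5 + 5 * (m + 16) by ring, pow_add]
      norm_num
    rw [h2]
    have h3 : 32 ≤ (m + 19) ^ 2 := by nlinarith
    calc 32 * 2 ^ (5 * (m + 16)) * 4 = 32 * (2 ^ (5 * (m + 16)) * 4) := by ring
      _ ≤ (m + 19) ^ 2 * (m + 18).factorial ^ 2 := Nat.mul_le_mul h3 ih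

theorem Cond.not_alt {n : ℕ} (C : Cond (Nat.card (alternatingGroup (Fin n)))) : False := by
  obtain hn | hn := Nat.lt_or_ge n 2
  · have h1 : Subsingleton (Fin n) := Fin.subsingleton_iff_le_one.2 (by omega)
    have h2 : Nat.card (alternatingGroup (Fin n)) = 1 := by
      have : Subsingleton (Equiv.Perm (Fin n)) := inferInstance
      exact Nat.card_unique
    rw [h2] at C
    exact C.not_two (by norm_num) (by norm_num)
  have h2 := two_mul_card_alt n hn
  set N := Nat.card (alternatingGroup (Fin n)) with hN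
  -- `2 ^ (n - 1) ∤ N`
  have h3 : ¬ 2 ^ (n - 2 + 1) ∣ N := by
    intro h
    have h4 : 2 ^ n ∣ n.factorial := by
      have h7 : 2 ^ n = 2 * 2 ^ (n - 2 + 1) := by
        rw [← pow_succ']
        congr 1
        omega
      rw [← h2, h7]
      exact Nat.mul_dvd_mul_left 2 h
    have h5 := Nat.emultiplicity_two_factorial_lt (n := n) (by omega)
    exact not_pow_dvd_of_emultiplicity_lt h5 h4
  rcases C.h2 with h | h
  · -- `n ≥ 17`
    have h4 := ordProj_le C.ne h3
    have h5 : 15 ≤ n - 2 := (Nat.pow_le_pow_iff_right (by norm_num)).1 (h.trans h4)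
    obtain rfl | h6 : n = 17 ∨ 18 ≤ n := by omega
    · have h7 : (17 : ℕ).factorial = 355687428096000 := by decide +kernel
      have h8 : N = 177843714048000 := by omega
      rw [h8] at C
      exact C.not_one 14 (by norm_num) (by norm_num)
    · obtain ⟨m, rfl⟩ := Nat.exists_eq_add_of_le' h6
      refine C.not_one (m + 18 - 2) h3 ?_
      have h7 := fact_large m
      rw [← h2, mul_pow, show m + 18 - 2 = m + 16 by omega] at *
      omega
  · have h4 : n.factorial = 1974067200 := by omega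
    have h5 : (12 : ℕ).factorial = 479001600 := by decide +kernel
    have h6 : (13 : ℕ).factorial = 6227020800 := by decide +kernel
    rcases Nat.lt_or_ge n 13 with h7 | h7
    · have := Nat.factorial_le (show n ≤ 12 by omega)
      omega
    · have := Nat.factorial_le h7
      omega

/-! ### `L₃(q)` and `U₃(q)` -/

theorem dvd_of_odd {N A B : ℕ} (h : ordProj[2] N ∣ A * B) (hB : Odd B) : ordProj[2] N ∣ A := by
  refine Nat.Coprime.dvd_of_dvd_mul_right ?_ h
  exact Nat.Coprime.pow_left _ (Nat.coprime_two_left.2 hB)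

theorem ordProj_dvd_three {N A : ℕ} (h : 3 * N = A) : ordProj[2] N ∣ A := by
  rw [← h]
  exact (Nat.ordProj_dvd N 2).mul_left 3

/-- the final estimate -/
theorem Cond.not_cube {N q A B : ℕ} (C : Cond N) (hN : N ≠ 987033600) (h : 3 * N = q ^ 3 * (A * B)) (hA : q ^ 2 - 1 ≤ A)
    (hB : q ^ 3 - 1 ≤ B) (h3 : ordProj[2] N ≤ q ^ 3) : False := by
  have h2 : 2 ^ 15 ≤ ordProj[2] N := by
    rcases C.h2 with h | h
    · exact h
    · exact absurd h hN
  have hq : 32 ≤ q := by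
    by_contra hcon
    have h4 : q ^ 3 ≤ 31 ^ 3 := Nat.pow_le_pow_left (by omega) 3
    norm_num at h4
    omega
  have h4 : (ordProj[2] N) ^ 5 ≤ (q ^ 3) ^ 5 := Nat.pow_le_pow_left h3 5
  have h5 := C.h1.trans_le h4
  have hA' : 3 * q ^ 2 ≤ 4 * A := by
    have : 32 ^ 2 ≤ q ^ 2 := Nat.pow_le_pow_left hq 2
    omega
  have hB' : 3 * q ^ 3 ≤ 4 * B := by
    have : 32 ^ 3 ≤ q ^ 3 := Nat.pow_le_pow_left hq 3
    omega
  have h6 : 9 * q ^ 5 ≤ 16 * (A * B) := by
    calc 9 * q ^ 5 = (3 * q ^ 2) * (3 * q ^ 3) := by ring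
      _ ≤ (4 * A) * (4 * B) := Nat.mul_le_mul hA' hB'
      _ = _ := by ring
  have h7 : 9 * q ^ 8 ≤ 48 * N := by
    calc 9 * q ^ 8 = q ^ 3 * (9 * q ^ 5) := by ring
      _ ≤ q ^ 3 * (16 * (A * B)) := Nat.mul_le_mul_left _ h6
      _ = 16 * (q ^ 3 * (A * B)) := by ring
      _ = 48 * N := by rw [← h]; ring
  have h8 : (9 * q ^ 8) ^ 2 ≤ (48 * N) ^ 2 := Nat.pow_le_pow_left h7 2
  have h9 : (48 * N) ^ 2 = 2304 * N ^ 2 := by ring
  have h10 : (9 * q ^ 8) ^ 2 = 81 * (q ^ 3) ^ 5 * q := by ring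
  rw [h9, h10] at h8
  have h11 : 2304 * N ^ 2 < 2304 * (q ^ 3) ^ 5 := Nat.mul_lt_mul_of_pos_left h5 (by norm_num)
  have h12 : 81 * (q ^ 3) ^ 5 * 32 ≤ 81 * (q ^ 3) ^ 5 * q := Nat.mul_le_mul_left _ hq
  have h13 := h12.trans_lt (h8.trans_lt h11)
  have h14 : 81 * (q ^ 3) ^ 5 * 32 = 2592 * (q ^ 3) ^ 5 := by ring
  rw [h14] at h13
  have h15 : 2304 * (q ^ 3) ^ 5 ≤ 2592 * (q ^ 3) ^ 5 := Nat.mul_le_mul_right _ (by norm_num)
  omega

theorem Cond.not_psl3 {F : Type} [Field F] [Fintype F] (h3 : Fintype.card F % 3 = 1)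
    (C : Cond (Nat.card (Matrix.ProjectiveSpecialLinearGroup (Fin 3) F))) : False := by
  set N := Nat.card (Matrix.ProjectiveSpecialLinearGroup (Fin 3) F) with hN
  set q := Fintype.card F with hqdef
  have h := S0243.result (F := F) hqdef.symm 3 (by norm_num)
  have hg : Nat.gcd 3 (q - 1) = 3 := Nat.gcd_eq_left (by omega)
  have hq2 : 2 ≤ q := by
    have : 1 < Fintype.card F := Fintype.one_lt_card
    omega
  rw [hg, Fin.prod_univ_three, ← hN] at h
  simp only [Fin.val_zero, Fin.val_one, Fin.val_two, pow_zero, pow_one] at h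
  clear_value q
  obtain ⟨r, rfl⟩ : ∃ r, q = r + 1 := ⟨q - 1, by omega⟩
  have hr : 0 < r := by omega
  have e1 : (r + 1) ^ 3 - 1 = r * (r ^ 2 + 3 * r + 3) := by
    rw [Nat.sub_eq_iff_eq_add (Nat.one_le_pow _ _ (by omega))]; ring
  have e2 : (r + 1) ^ 3 - (r + 1) = (r + 1) * (r * (r + 2)) := by
    rw [Nat.sub_eq_iff_eq_add (Nat.le_self_pow (by norm_num) _)]; ring
  have e3 : (r + 1) ^ 3 - (r + 1) ^ 2 = (r + 1) ^ 2 * r := by
    rw [Nat.sub_eq_iff_eq_add (Nat.pow_le_pow_right (by omega) (by norm_num))]; ring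
  rw [Nat.add_sub_cancel, e1, e2, e3] at h
  have h' : 3 * N = (r + 1) ^ 3 * ((r * (r + 2)) * (r * (r ^ 2 + 3 * r + 3))) := by
    apply Nat.eq_of_mul_eq_mul_left hr
    rw [mul_left_comm, h]; ring
  have hA : (r + 1) ^ 2 - 1 = r * (r + 2) := by
    rw [Nat.sub_eq_iff_eq_add (Nat.one_le_pow _ _ (by omega))]; ring
  have hbig : N ≠ 987033600 := by
    intro hc
    rw [hc] at h'
    have h5 : r ≤ 15 ∨ 16 ≤ r := by omega
    rcases h5 with h5 | h5
    · interval_cases r <;> norm_num at h'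
    · have h6 : 17 ^ 3 * ((16 * 18) * (16 * (16 ^ 2 + 3 * 16 + 3))) ≤
        (r + 1) ^ 3 * ((r * (r + 2)) * (r * (r ^ 2 + 3 * r + 3))) := by gcongr <;> omega
      norm_num at h6
      omega
  refine C.not_cube hbig h' hA.le e1.le ?_
  have h5 := ordProj_dvd_three h'
  have ho : Odd (r ^ 2 + 3 * r + 3) := by
    have : r ^ 2 + 3 * r + 3 = r * (r + 1) + 2 * (r + 1) + 1 := by ring
    rw [this]
    exact (((Nat.even_mul_succ_self r).add (even_two_mul _))).add_one
  rcases Nat.even_or_odd r with he | ho'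
  · -- `q` odd
    have h6 : (r + 1) ^ 3 * ((r * (r + 2)) * (r * (r ^ 2 + 3 * r + 3))) =
        (r * r * (r + 2)) * ((r + 1) ^ 3 * (r ^ 2 + 3 * r + 3)) := by ring
    rw [h6] at h5
    have h7 := dvd_of_odd h5 ((he.add_one.pow).mul ho)
    refine (Nat.le_of_dvd (by positivity) h7).trans ?_
    nlinarith [sq_nonneg (r : ℤ), Nat.zero_le r]
  · have h6 : Odd ((r * (r + 2)) * (r * (r ^ 2 + 3 * r + 3))) :=
      (ho'.mul (ho'.add_even even_two)).mul (ho'.mul ho)
    exact Nat.le_of_dvd (by positivity) (dvd_of_odd h5 h6)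

theorem Cond.not_psu3 {F : Type} [Field F] [Fintype F] {q : ℕ} (hF : Fintype.card F = q ^ 2) (h3 : q % 3 = 2)
    (C : Cond (Nat.card (PSU 3 F q))) : False := by
  set N := Nat.card (PSU 3 F q) with hN
  have h := S0280.result (F := F) hF 3 (by norm_num)
  have hg : Nat.gcd 3 (q + 1) = 3 := Nat.gcd_eq_left (by omega)
  rw [hg, ← hN, Finset.prod_range_succ, Finset.prod_range_succ, Finset.prod_range_succ, Finset.prod_range_zero,
    if_pos (by decide), if_neg (by decide), if_pos (by decide)] at h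
  have hq2 : 2 ≤ q := by omega
  obtain ⟨r, rfl⟩ : ∃ r, q = r + 1 := ⟨q - 1, by omega⟩
  have e1 : (r + 1) ^ (1 + 1) - 1 = r * (r + 2) := by
    rw [Nat.sub_eq_iff_eq_add (Nat.one_le_pow _ _ (by omega))]; ring
  rw [e1] at h
  have h' : 3 * N = (r + 1) ^ 3 * ((r * (r + 2)) * ((r + 1) ^ 3 + 1)) := by
    apply Nat.eq_of_mul_eq_mul_left (show 0 < r + 1 + 1 by omega)
    rw [mul_left_comm, h]; norm_num; ring
  have hA : (r + 1) ^ 2 - 1 = r * (r + 2) := e1
  have hbig : N ≠ 987033600 := by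
    intro hc
    rw [hc] at h'
    have h5 : r ≤ 15 ∨ 16 ≤ r := by omega
    rcases h5 with h5 | h5
    · interval_cases r <;> norm_num at h'
    · have h6 : 17 ^ 3 * ((16 * 18) * (17 ^ 3 + 1)) ≤ (r + 1) ^ 3 * ((r * (r + 2)) * ((r + 1) ^ 3 + 1)) := by
        gcongr <;> omega
      norm_num at h6
      omega
  refine C.not_cube hbig h' hA.le ((Nat.sub_le _ _).trans (Nat.le_add_right _ _)) ?_
  have h2 : 2 ^ 15 ≤ ordProj[2] N := by
    rcases C.h2 with h | h
    · exact h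
    · exact absurd h hbig
  have h5 := ordProj_dvd_three h'
  have e2 : (r + 1) ^ 3 + 1 = (r + 2) * (r ^ 2 + r + 1) := by ring
  have ho : Odd (r ^ 2 + r + 1) := by
    have : r ^ 2 + r + 1 = r * (r + 1) + 1 := by ring
    rw [this]
    exact (Nat.even_mul_succ_self r).add_one
  rcases Nat.even_or_odd r with he | ho'
  · -- `q` odd
    have h6 : (r + 1) ^ 3 * ((r * (r + 2)) * ((r + 1) ^ 3 + 1)) =
        (r * (r + 2) * (r + 2)) * ((r + 1) ^ 3 * (r ^ 2 + r + 1)) := by rw [e2]; ring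
    rw [h6] at h5
    have h7 := dvd_of_odd h5 ((he.add_one.pow).mul ho)
    obtain ⟨s, hs⟩ := he
    have hs' : r = 2 * s := by omega
    subst hs'
    rcases Nat.even_or_odd s with hse | hso
    · -- `q = 1 mod 4`
      have h8 : 2 * s * (2 * s + 2) * (2 * s + 2) = (4 * (2 * s)) * ((s + 1) * (s + 1)) := by ring
      rw [h8] at h7
      have h9 := dvd_of_odd h7 (hse.add_one.mul hse.add_one)
      rcases Nat.eq_zero_or_pos s with rfl | hs0
      · omega
      · refine (Nat.le_of_dvd (by positivity) h9).trans ?_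
        nlinarith [Nat.zero_le s, sq_nonneg (s : ℤ)]
    · have h8 : 2 * s * (2 * s + 2) * (2 * s + 2) = (2 * (2 * s + 2) ^ 2) * s := by ring
      rw [h8] at h7
      have h9 := dvd_of_odd h7 hso
      have h10 := Nat.le_of_dvd (by positivity) h9
      refine h10.trans ?_
      have h11 : 2 ^ 15 ≤ 2 * (2 * s + 2) ^ 2 := h2.trans h10
      have h12 : 4 ≤ s := by
        by_contra hcon
        have h13 : 2 * (2 * s + 2) ^ 2 ≤ 2 * (2 * 3 + 2) ^ 2 := by gcongr; omega
        norm_num at h13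
        omega
      nlinarith [Nat.zero_le s, Nat.mul_le_mul h12 h12]
  · have h6 : Odd ((r * (r + 2)) * ((r + 1) ^ 3 + 1)) := by
      rw [e2]
      exact (ho'.mul (ho'.add_even even_two)).mul ((ho'.add_even even_two).mul ho)
    exact Nat.le_of_dvd (by positivity) (dvd_of_odd h5 h6)

/-! ### small groups -/

section small

variable {F : Type} [Field F] [Fintype F]

theorem card_u5 (hF : Fintype.card F = 4) : Nat.card (PSU 5 F 2) = 13685760 := by
  have h := S0280.result (F := F) (q := 2) (by rw [hF]; norm_num) 5 (by norm_num)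
  have hg : Nat.gcd 5 (2 + 1) = 1 := by decide
  rw [hg] at h
  simp only [Finset.prod_range_succ, Finset.prod_range_zero] at h
  rw [if_pos (by decide), if_neg (by decide), if_pos (by decide), if_neg (by decide), if_pos (by decide)] at h
  norm_num at h
  omega

theorem card_u6 (hF : Fintype.card F = 4) : Nat.card (PSU 6 F 2) = 9196830720 := by
  have h := S0280.result (F := F) (q := 2) (by rw [hF]; norm_num) 6 (by norm_num)
  have hg : Nat.gcd 6 (2 + 1) = 3 := by decide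
  rw [hg] at h
  simp only [Finset.prod_range_succ, Finset.prod_range_zero] at h
  rw [if_pos (by decide), if_neg (by decide), if_pos (by decide), if_neg (by decide), if_pos (by decide),
    if_neg (by decide)] at h
  norm_num at h
  omega

theorem card_psp (m : ℕ) (hm : 1 ≤ m) : Nat.gcd 2 (Fintype.card F - 1) * Nat.card (PSp m F) =
    Fintype.card F ^ (m ^ 2) * ∏ i ∈ Finset.range m, (Fintype.card F ^ (2 * (i + 1)) - 1) := by
  have h1 := S0245.result (F := F) rfl m
  have h2 := S0246.result (F := F) rfl m hm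
  have h3 := Subgroup.card_mul_index (Subgroup.center ↥(Matrix.symplecticGroup (Fin m) F))
  rw [h1, h2] at h3
  exact h3

theorem card_sp6 (hF : Fintype.card F = 2) : Nat.card (PSp 3 F) = 1451520 := by
  have h := card_psp (F := F) 3 (by norm_num)
  rw [hF] at h
  have hg : Nat.gcd 2 (2 - 1) = 1 := by decide
  rw [hg] at h
  simp only [Finset.prod_range_succ, Finset.prod_range_zero] at h
  norm_num at h
  exact h

theorem card_sp4 (hF : Fintype.card F = 8) : Nat.card (PSp 2 F) = 1056706560 := by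
  have h := card_psp (F := F) 2 (by norm_num)
  rw [hF] at h
  have hg : Nat.gcd 2 (8 - 1) = 1 := by decide
  rw [hg] at h
  simp only [Finset.prod_range_succ, Finset.prod_range_zero] at h
  norm_num at h
  exact h

theorem card_o8 (hF : Fintype.card F = 2) : Nat.card (POmega F (quadFormPlus 4 F)) = 174182400 := by
  have h := S0293.result (F := F) hF 4 (by norm_num)
  have hg : Nat.gcd 4 (2 ^ 4 - 1) = 1 := by decide
  rw [hg] at h
  simp only [show 4 - 1 = 3 by norm_num, Finset.prod_range_succ, Finset.prod_range_zero] at h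
  norm_num at h
  exact h

theorem card_f4 (hF : Fintype.card F = 2) : Nat.card ↥(Lie.chevF4.group F) = 3311126603366400 := by
  rw [S1062.result hF]; norm_num

theorem card_d4 (hF : Fintype.card F = 8) : Nat.card ↥(Lie.twistedD4 F 2) = 211341312 := by
  rw [S1067.result (q := 2) (Nat.prime_two.isPrimePow) (by rw [hF]; norm_num)]; norm_num

theorem card_g2 (hF : Fintype.card F = 8) : Nat.card ↥(Lie.chevG2.group F) = 4329310519296 := by
  rw [S1059.result hF]; norm_num

theorem card_l2 (hF : Fintype.card F = 8) : Nat.card (Matrix.ProjectiveSpecialLinearGroup (Fin 2) F) = 504 := by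
  have h := S0243.result (F := F) (q := 8) hF 2 (by norm_num)
  have hg : Nat.gcd 2 (8 - 1) = 1 := by decide
  rw [hg, Fin.prod_univ_two] at h
  norm_num at h
  omega

theorem card_tf (hF : Fintype.card F = 32) :
    Nat.card ↥(Lie.twistedF4 F 4) = 1318633155799591447702161609782722560000 := by
  have h := S1068.result (K := F) (m := 2) (by rw [hF]; norm_num)
  rw [show 2 ^ 2 = 4 by norm_num] at h
  rw [h]; norm_num

theorem card_sz (hF : Fintype.card F = 32) : Nat.card ↥(Lie.Sz F 8) = 32537600 := by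
  have h := (S1163.result (F := F) (m := 2) (by norm_num) (by rw [hF]; norm_num)).1
  rw [show 2 ^ (2 + 1) = 8 by norm_num] at h
  rw [h]; norm_num

end small

/-! ### the theorem -/

section main

variable {p : ℕ} {X : Type u} [Group X]

theorem Cond.not_chev (hp : p.Prime) (hp2 : p ≠ 2) (C : Cond (Nat.card X))
    (h3 : (ordProj[p] (Nat.card X)) ^ 3 ≤ Nat.card X) : ¬ IsChevSimple p X := by
  rintro (h | ⟨h, -⟩ | ⟨-, F, _, _, hF, ⟨e⟩⟩)
  · exact absurd (card_lt_cube hp hp2 h) (by omega)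
  · exact hp2 h
  · rw [Nat.card_congr e.toEquiv, card_l2 hF] at C
    exact C.not_two (by norm_num) (by norm_num)

theorem Cond.not_three (S : SporOrders.{u}) (C : Cond (Nat.card X)) : ¬ IsCThreeListed X := by
  rintro (⟨F, _, _, hF, ⟨⟨e⟩⟩ | ⟨⟨e⟩⟩⟩ | ⟨F, _, _, hF, ⟨⟨e⟩⟩ | ⟨⟨e⟩⟩ | ⟨⟨e⟩⟩⟩ | ⟨F, _, _, hF, ⟨⟨e⟩⟩ | ⟨⟨e⟩⟩⟩ |
    h | h | h | h | h | h | h | h | h | h | h | h | h | h | h | h | h)
  · rw [Nat.card_congr e.toEquiv, card_u5 hF] at C
    exact C.not_two (by norm_num) (by norm_num)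
  · rw [Nat.card_congr e.toEquiv, card_u6 hF] at C
    exact C.u6 rfl
  · rw [Nat.card_congr e.toEquiv, card_sp6 hF] at C
    exact C.not_two (by norm_num) (by norm_num)
  · rw [Nat.card_congr e.toEquiv, card_o8 hF] at C
    exact C.not_two (by norm_num) (by norm_num)
  · rw [Nat.card_congr e.toEquiv, card_f4 hF] at C
    exact C.f4 rfl
  · rw [Nat.card_congr e.toEquiv, card_d4 hF] at C
    exact C.not_two (by norm_num) (by norm_num)
  · rw [Nat.card_congr e.toEquiv, card_sp4 hF] at C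
    exact C.not_two (by norm_num) (by norm_num)
  · rw [S.tits X h] at C
    exact C.not_two (by norm_num) (by norm_num)
  · rw [S.m11 X h] at C
    exact C.not_two (by norm_num) (by norm_num)
  · rw [S.j3 X h] at C
    exact C.not_two (by norm_num) (by norm_num)
  · rw [S.co1 X h] at C
    exact C.not_one 21 (by norm_num) (by norm_num)
  · rw [S.co2 X h] at C
    exact C.not_one 18 (by norm_num) (by norm_num)
  · rw [S.co3 X h] at C
    exact C.not_two (by norm_num) (by norm_num)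
  · rw [S.mcl X h] at C
    exact C.not_two (by norm_num) (by norm_num)
  · rw [S.ly X h] at C
    exact C.not_two (by norm_num) (by norm_num)
  · rw [S.suz X h] at C
    exact C.not_two (by norm_num) (by norm_num)
  · rw [S.on X h] at C
    exact C.not_two (by norm_num) (by norm_num)
  · rw [S.fi22 X h] at C
    exact C.not_one 17 (by norm_num) (by norm_num)
  · rw [S.fi23 X h] at C
    exact C.not_one 18 (by norm_num) (by norm_num)
  · rw [S.fi24 X h] at C
    exact C.not_one 21 (by norm_num) (by norm_num)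
  · rw [S.hn X h] at C
    exact C.not_two (by norm_num) (by norm_num)
  · rw [S.th X h] at C
    exact C.not_one 15 (by norm_num) (by norm_num)
  · rw [S.b X h] at C
    exact C.not_one 41 (by norm_num) (by norm_num)
  · rw [S.m X h] at C
    exact C.not_one 46 (by norm_num) (by norm_num)

theorem Cond.not_five (S : SporOrders.{u}) (C : Cond (Nat.card X)) : ¬ IsCFiveListed X := by
  rintro (h | ⟨F, _, _, hF, ⟨⟨e⟩⟩ | ⟨⟨e⟩⟩⟩ | h | h | h | h | h | h | h | h | h | h | h | h | h)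
  · rw [S.tits X h] at C
    exact C.not_two (by norm_num) (by norm_num)
  · rw [Nat.card_congr e.toEquiv, card_tf hF] at C
    exact C.tf rfl
  · rw [Nat.card_congr e.toEquiv, card_sz hF] at C
    exact C.not_two (by norm_num) (by norm_num)
  · rw [S.j2 X h] at C
    exact C.not_two (by norm_num) (by norm_num)
  · rw [S.co1 X h] at C
    exact C.not_one 21 (by norm_num) (by norm_num)
  · rw [S.co2 X h] at C
    exact C.not_one 18 (by norm_num) (by norm_num)
  · rw [S.co3 X h] at C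
    exact C.not_two (by norm_num) (by norm_num)
  · rw [S.hs X h] at C
    exact C.not_two (by norm_num) (by norm_num)
  · rw [S.mcl X h] at C
    exact C.not_two (by norm_num) (by norm_num)
  · rw [S.ly X h] at C
    exact C.not_two (by norm_num) (by norm_num)
  · rw [S.ru X h] at C
    exact C.not_two (by norm_num) (by norm_num)
  · rw [S.he X h] at C
    exact C.not_two (by norm_num) (by norm_num)
  · rw [S.hn X h] at C
    exact C.not_two (by norm_num) (by norm_num)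
  · rw [S.th X h] at C
    exact C.not_one 15 (by norm_num) (by norm_num)
  · rw [S.b X h] at C
    exact C.not_one 41 (by norm_num) (by norm_num)
  · rw [S.m X h] at C
    exact C.not_one 46 (by norm_num) (by norm_num)

/-- **`X` is not on the `C_p` list.** -/
theorem Cond.not_cp (S : SporOrders.{u}) (hp : p.Prime) (hp2 : p ≠ 2) (C : Cond (Nat.card X))
    (h3 : (ordProj[p] (Nat.card X)) ^ 3 ≤ Nat.card X) : ¬ IsCpSimple p X := by
  rintro (h | ⟨n, -, ⟨e⟩⟩ | ⟨h, -⟩ | ⟨-, h⟩ | ⟨-, h⟩ | ⟨-, h | h | h | h | h | h⟩ | ⟨-, h⟩)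
  · exact C.not_chev hp hp2 h3 h
  · rw [Nat.card_congr e.toEquiv] at C
    exact C.not_alt
  · exact hp2 h
  · exact C.not_three S h
  · exact C.not_five S h
  · rw [S.co1 X h] at C
    exact C.not_one 21 (by norm_num) (by norm_num)
  · rw [S.he X h] at C
    exact C.not_two (by norm_num) (by norm_num)
  · rw [S.on X h] at C
    exact C.not_two (by norm_num) (by norm_num)
  · rw [S.fi24 X h] at C
    exact C.not_one 21 (by norm_num) (by norm_num)
  · rw [S.th X h] at C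
    exact C.not_one 15 (by norm_num) (by norm_num)
  · rw [S.m X h] at C
    exact C.not_one 46 (by norm_num) (by norm_num)
  · rw [S.j4 X h] at C
    exact C.not_one 21 (by norm_num) (by norm_num)

theorem not_inC (S : SporOrders.{u}) (hp : p.Prime) (hp2 : p ≠ 2)
    (C : Cond (Nat.card (X ⧸ Subgroup.center X)))
    (h3 : (ordProj[p] (Nat.card (X ⧸ Subgroup.center X))) ^ 3 ≤ Nat.card (X ⧸ Subgroup.center X)) :
    ¬ InC p X := fun h => C.not_cp S hp hp2 h3 h.2.2.1

theorem not_inT (S : SporOrders.{u}) (hp2 : p ≠ 2) (C : Cond (Nat.card (X ⧸ Subgroup.center X)))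
    (hr : ¬ PRankLE p 1 X) : ¬ InT p X := by
  rintro ⟨-, -, -, -, ⟨h, -⟩ | ⟨-, ⟨F, _, _, hF, ⟨e⟩⟩ | ⟨F, _, _, q, hF, hq, ⟨e⟩⟩ | ⟨⟨e⟩⟩ | h | h | h |
    ⟨F, _, _, hF, ⟨e⟩⟩ | ⟨-, ⟨e⟩⟩⟩ | ⟨-, h⟩ | ⟨-, h, -⟩⟩
  · exact hp2 h
  · rw [Nat.card_congr e.toEquiv] at C
    exact C.not_psl3 hF
  · rw [Nat.card_congr e.toEquiv] at C
    exact C.not_psu3 hF hq
  · rw [Nat.card_congr e.toEquiv] at C
    exact C.not_alt
  · rw [S.m12 _ h] at C
    exact C.not_two (by norm_num) (by norm_num)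
  · rw [S.m22 _ h] at C
    exact C.not_two (by norm_num) (by norm_num)
  · rw [S.j2 _ h] at C
    exact C.not_two (by norm_num) (by norm_num)
  · rw [Nat.card_congr e.toEquiv, card_g2 hF] at C
    exact C.g2 rfl
  · rw [Nat.card_congr e.toEquiv] at C
    exact C.not_alt
  · have h1 : Nat.card (X ⧸ Subgroup.center X) = 64561751654400 := by
      have h2 := Subgroup.card_mul_index (Subgroup.center X)
      rw [S.fi22c X h, Subgroup.card_bot, one_mul, S.fi22 X h] at h2
      rw [← h2, S.fi22c X h]; rfl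
    rw [h1] at C
    exact C.not_one 17 (by norm_num) (by norm_num)
  · exact hr h

/-- **The order criterion.** -/
theorem notCT_of_order (S : SporOrders.{u}) (hp : p.Prime) (hp2 : p ≠ 2)
    (C : Cond (Nat.card (X ⧸ Subgroup.center X)))
    (h3 : (ordProj[p] (Nat.card (X ⧸ Subgroup.center X))) ^ 3 ≤ Nat.card (X ⧸ Subgroup.center X))
    (hr : ¬ PRankLE p 1 X) : ¬ InC p X ∧ ¬ InT p X :=
  ⟨not_inC S hp hp2 C h3, not_inT S hp2 C hr⟩

end main

end Cfsg.Agent.OrdCrit

end
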